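import Cfsg.Agent.Lib.Sporadic.ThPres.SubUA.Tree0

set_option autoImplicit false
set_option maxRecDepth 20000

/-! Generated certificate: cosets of <> in <acde> (tools/cosetbound/gen_pairs.py; generated; owner: helper9). -/

namespace CfsgLib.Sporadic.ThPres.SubUA
open CfsgLib.Recog.SporBound (Q)

noncomputable def factTree : Q (ℕ) := (.node ft0 ft1 ft2 ft3)
noncomputable def nodeTree : Q (ℕ) := ct0
noncomputable def stepTree : Q (List ℕ) := st6
noncomputable def finalTree : Q (List ℕ) := et6

/-- The certificate. -/
noncomputable def cert : CfsgLib.Sporadic.PairEnum.Cert where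
  n := 96
  nd := 136
  nf := 471
  nl := 8
  kl := [0, 2, 4, 6]
  facts := factTree
  cn := nodeTree
  steps := stepTree
  finals := finalTree
  rels := [[0, 0],
    [2, 2],
    [4, 4],
    [6, 6],
    [0, 6, 0, 6],
    [0, 5, 3, 5, 3, 5, 3, 5, 3],
    [2, 6, 2, 6],
    [4, 6, 4, 6, 4, 6]]
  subs := []

/-- Traced words with their chains. -/
noncomputable def closers : List (List ℕ × ℕ) :=
  []

end CfsgLib.Sporadic.ThPres.SubUA
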